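import Mathlib
import Cfsg.Agent.Lib.Helper3.OutAut.M24

set_option autoImplicit false

/-!
S2069 leaf CO4c, computational part: two generators `aM`, `bM` of `M24` (those of
`Helper3.OutM24`), relator words, and the certificate that a cocycle value `x = d(b)` (with
`d(a) = 0`) satisfying the relator equations is trivial modulo the all-ones word.
-/

namespace Cfsg.Agent.Lib.Helper15.Co1Leaf

open Cfsg
open Cfsg.Agent.Lib.Helper3.Golay
open Cfsg.Agent.Lib.Helper3.OutAut
open Cfsg.Agent.Lib.Helper3.OutM24 (aT aiT bT prog cert_gen)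

theorem cert_ab : okInv aT aiT = true ∧ okInv aiT aT = true ∧ codeOK aT = true ∧
    okInv bT bT = true ∧ codeOK bT = true := by decide +kernel

/-- the generator of order 23 -/
def aP : Equiv.Perm GolayPt := permOfTbl aT aiT cert_ab.1 cert_ab.2.1

/-- the involution generator -/
def bP : Equiv.Perm GolayPt := permOfTbl bT bT cert_ab.2.2.2.1 cert_ab.2.2.2.1

theorem aP_tbl : HasTbl aP aT := hasTbl_permOfTbl _ _ _ _

theorem bP_tbl : HasTbl bP bT := hasTbl_permOfTbl _ _ _ _

theorem aP_mem : aP ∈ M24 := aP_tbl.mem_M24 cert_ab.2.2.1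

theorem bP_mem : bP ∈ M24 := bP_tbl.mem_M24 cert_ab.2.2.2.2

/-- the two generators as elements of `M24` -/
def aM : ↥M24 := ⟨aP, aP_mem⟩

def bM : ↥M24 := ⟨bP, bP_mem⟩

/-- `M24` is generated by the two permutations -/
theorem M24_le_closure : M24 ≤ Subgroup.closure {aP, bP} := by
  have := M24_fixB_le (closure_pair_le aP_mem bP_mem) (sound_pair aP_tbl bP_tbl prog) 0
    (by norm_num) cert_gen
  simpa [fixB] using this

/-- the product of a word in the generators (`false = a`, `true = b`) -/
def evalP : List Bool → ↥M24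
  | [] => 1
  | false :: L => aM * evalP L
  | true :: L => bM * evalP L

/-- the word applied to a point index, on tables -/
def appW : List Bool → ℕ → ℕ
  | [], i => i
  | false :: L, i => aT.getD (appW L i) 0
  | true :: L, i => bT.getD (appW L i) 0

theorem appW_spec (L : List Bool) (i : ℕ) (hi : i < 24) :
    appW L i < 24 ∧ (evalP L).1 (pt i) = pt (appW L i) := by
  induction L with
  | nil => exact ⟨hi, rfl⟩
  | cons l L ih =>
    obtain ⟨h1, h2⟩ := ih
    cases l
    · refine ⟨aP_tbl.lt h1, ?_⟩
      show aP ((evalP L).1 (pt i)) = _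
      rw [h2, aP_tbl.apply h1]
      rfl
    · refine ⟨bP_tbl.lt h1, ?_⟩
      show bP ((evalP L).1 (pt i)) = _
      rw [h2, bP_tbl.apply h1]
      rfl

/-- the word is a relator -/
def relOK (R : List Bool) : Bool := allBelow 24 (fun i => Nat.beq (appW R i) i)

theorem evalP_eq_one {R : List Bool} (h : relOK R = true) : evalP R = 1 := by
  unfold relOK at h
  rw [allBelow_iff] at h
  apply Subtype.ext
  apply Equiv.ext
  intro p
  have h1 := (appW_spec R (idx p) (idx_lt p)).2
  rw [pt_idx] at h1
  rw [h1, Nat.eq_of_beq_eq_true (h _ (idx_lt p)), pt_idx]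
  rfl

/-- the relator words -/
def relsL : List (List Bool) :=
  [[true, true],
   (List.replicate 7 [false, false, true]).flatten,
   (List.replicate 6 [false, false, false, true]).flatten,
   (List.replicate 6 [false, false, true, false, false, false, true]).flatten,
   (List.replicate 6 [false, false, false, false, false, false, false, true]).flatten,
   (List.replicate 2 ([false, false, false, true] ++ List.replicate 20 false ++ [true])).flatten,
   List.replicate 23 false]

theorem cert_rels : relsL.all relOK = true := by decide +kernel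

/-- the image of a bitmask under `a` -/
def PA (m : ℕ) : ℕ := pmAux (tblFn aT) 24 m

/-- the image of a bitmask under `b` -/
def PB (m : ℕ) : ℕ := pmAux (tblFn bT) 24 m

/-- the value of a cocycle with `d(a) = 0`, `d(b) = m` along a word, on bitmasks -/
def dWm (m : ℕ) : List Bool → ℕ
  | [] => 0
  | false :: L => PA (dWm m L)
  | true :: L => m ^^^ PB (dWm m L)

/-- trivial modulo the all-ones word -/
def isTriv (m : ℕ) : Bool := Nat.beq m 0 || Nat.beq m 0xffffff

set_option maxRecDepth 100000 in
theorem cert_h1 : allBelow 4096 (fun c =>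
    !(relsL.all (fun R => isTriv (dWm (codeMask c) R))) || isTriv (codeMask c)) = true := by
  decide +kernel

theorem PA_lt (m : ℕ) : PA m < 2 ^ 24 :=
  pmAux_lt _ _ _ (fun i hi => aP_tbl.lt hi)

theorem PB_lt (m : ℕ) : PB m < 2 ^ 24 :=
  pmAux_lt _ _ _ (fun i hi => bP_tbl.lt hi)

theorem dWm_lt {m : ℕ} (hm : m < 2 ^ 24) (L : List Bool) : dWm m L < 2 ^ 24 := by
  induction L with
  | nil => show 0 < 2 ^ 24; norm_num
  | cons l L ih =>
    cases l
    · exact PA_lt _
    · exact Nat.xor_lt_two_pow hm (PB_lt _)

end Cfsg.Agent.Lib.Helper15.Co1Leaf
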