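import Mathlib
import Cfsg.Agent.Lib.Helper10.Co1O.Defs
import Cfsg.Agent.Lib.Helper15.Co1.CO4cCert

set_option autoImplicit false

/-!
S2069 leaf CO4c (`inner_of_fix_Eb`): an automorphism of `Nb = 2^11 : M24` that is trivial on `Eb`
and on `Nb / Eb` is conjugation by an element of `Eb`, i.e. `H^1(M24, C/<1>) = 0` for the Golay
code `C`.  The cocycle is normalised on the cyclic group of order 23 by averaging, and then
killed by a relator certificate (`cert_h1`).
-/

namespace Cfsg.Agent.Lib.Helper15.Co1Leaf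

open Cfsg
open Cfsg.Agent.Lib.Helper10.Co1O
open Cfsg.Agent.Lib.Helper3.Golay

/-! ### normal form modulo the all-ones word -/

/-- the base point of the normal form -/
def p0 : GolayPt := none

/-- normal form modulo the all-ones word: the coordinate at `p0` is made zero -/
def nf (w : ↥golayCode) : ↥golayCode := w + (w.1 p0) • oneW

theorem nf_add (w u : ↥golayCode) : nf (w + u) = nf w + nf u := by
  unfold nf
  have h : (w + u).1 p0 = w.1 p0 + u.1 p0 := rfl
  rw [h, add_smul]
  abel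

theorem nf_eq_self_or (w : ↥golayCode) : nf w = w ∨ nf w = w + oneW := by
  unfold nf
  have h : ∀ x : ZMod 2, x = 0 ∨ x = 1 := by decide
  rcases h (w.1 p0) with h | h
  · left
    rw [h, zero_smul, add_zero]
  · right
    rw [h, one_smul]

theorem nf_oneW : nf oneW = 0 := by
  unfold nf
  rw [oneW_apply, one_smul, add_self_code]

theorem nf_zero : nf 0 = 0 := by
  unfold nf
  have h : (0 : ↥golayCode).1 p0 = 0 := rfl
  rw [h, zero_smul, add_zero]

theorem nf_nf (w : ↥golayCode) : nf (nf w) = nf w := by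
  rcases nf_eq_self_or w with h | h
  · exact congrArg nf h
  · have := congrArg nf h
    rwa [nf_add, nf_oneW, add_zero] at this

theorem nf_actW (σ : ↥M24) (w : ↥golayCode) : nf (actW σ (nf w)) = nf (actW σ w) := by
  rcases nf_eq_self_or w with h | h
  · rw [h]
  · rw [h, actW_add, actW_oneW, nf_add, nf_oneW, add_zero]

theorem c2_eq_of_add_eq_zero {w u : ↥golayCode} (h : w + u = 0) : w = u := by
  have h1 : w = -u := eq_neg_of_add_eq_zero_left h
  have h2 : -u = u := neg_eq_of_add_eq_zero_right (add_self_code u)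
  rw [h1, h2]

theorem c2_eq_add_of_add_eq {w u z : ↥golayCode} (h : w + u = z) : w = u + z := by
  rw [← h, add_comm w u, ← add_assoc, add_self_code, zero_add]

theorem nf_eq_zero_iff (w : ↥golayCode) : nf w = 0 ↔ w = 0 ∨ w = oneW := by
  constructor
  · intro h
    rcases nf_eq_self_or w with h' | h'
    · left
      rw [← h', h]
    · right
      rw [h] at h'
      exact c2_eq_of_add_eq_zero h'.symm
  · rintro (rfl | rfl)
    · exact nf_zero
    · exact nf_oneW

theorem nf_eq_iff (w u : ↥golayCode) : nf w = nf u ↔ w = u ∨ w = u + oneW := by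
  constructor
  · intro h
    have h0 : nf (w + u) = 0 := by rw [nf_add, h, add_self_code]
    rcases (nf_eq_zero_iff _).mp h0 with h1 | h1
    · left
      exact c2_eq_of_add_eq_zero h1
    · right
      exact c2_eq_add_of_add_eq h1
  · rintro (rfl | rfl)
    · rfl
    · rw [nf_add, nf_oneW, add_zero]

/-- the action on normal forms, as an additive map -/
def rho (σ : ↥M24) : ↥golayCode →+ ↥golayCode where
  toFun w := nf (actW σ w)
  map_zero' := by rw [actW_zero, nf_zero]
  map_add' w u := by rw [actW_add, nf_add]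

theorem rho_apply (σ : ↥M24) (w : ↥golayCode) : rho σ w = nf (actW σ w) := rfl

theorem rho_mul (σ τ : ↥M24) (w : ↥golayCode) : rho (σ * τ) w = rho σ (rho τ w) := by
  rw [rho_apply, rho_apply, rho_apply, nf_actW, actW_mul]

theorem rho_one (w : ↥golayCode) : rho 1 w = nf w := by
  rw [rho_apply, actW_one]

theorem nf_rho (σ : ↥M24) (w : ↥golayCode) : nf (rho σ w) = rho σ w := nf_nf _

/-! ### cocycles along words -/

/-- the value along a word of a cocycle with `d(a) = 0`, `d(b) = x` -/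
def dW (x : ↥golayCode) : List Bool → ↥golayCode
  | [] => 0
  | false :: L => actW aM (dW x L)
  | true :: L => x + actW bM (dW x L)

theorem coc_evalP (E : ↥M24 → ↥golayCode) (hE : ∀ σ τ, E (σ * τ) = E σ + rho σ (E τ))
    (h1 : E 1 = 0) (ha : E aM = 0) (x : ↥golayCode) (hb : E bM = x) (hx : nf x = x)
    (L : List Bool) : E (evalP L) = nf (dW x L) := by
  induction L with
  | nil => exact h1.trans nf_zero.symm
  | cons l L ih =>
    cases l
    · show E (aM * evalP L) = nf (actW aM (dW x L))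
      rw [hE, ha, zero_add, ih, rho_apply, nf_actW]
    · show E (bM * evalP L) = nf (x + actW bM (dW x L))
      rw [hE, hb, ih, rho_apply, nf_actW, nf_add, hx]

theorem dW_mask (x : ↥golayCode) (m : ℕ) (hm : x.1 = wordOf m) (L : List Bool) :
    (dW x L).1 = wordOf (dWm m L) := by
  induction L with
  | nil => exact wordOf_zero.symm
  | cons l L ih =>
    cases l
    · show permWord aP (dW x L).1 = wordOf (PA (dWm m L))
      rw [ih]
      exact permWord_wordOf aP (tblFn Cfsg.Agent.Lib.Helper3.OutM24.aT) aP_tbl.2 _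
    · show x.1 + permWord bP (dW x L).1 = wordOf (m ^^^ PB (dWm m L))
      rw [ih, hm, wordOf_xor]
      congr 1
      exact permWord_wordOf bP (tblFn Cfsg.Agent.Lib.Helper3.OutM24.bT) bP_tbl.2 _

theorem evalP_replicate (n : ℕ) : evalP (List.replicate n false) = aM ^ n := by
  induction n with
  | zero => rfl
  | succ n ih =>
    show aM * evalP (List.replicate n false) = _
    rw [ih, pow_succ']

theorem aM_pow : aM ^ 23 = 1 := by
  rw [← evalP_replicate]
  apply evalP_eq_one
  exact List.all_eq_true.mp cert_rels _ (by simp [relsL])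

theorem mask_triv_of_nf {w : ↥golayCode} {m : ℕ} (hm : m < 2 ^ 24) (hw : w.1 = wordOf m)
    (h : nf w = 0) : isTriv m = true := by
  unfold isTriv
  rw [Bool.or_eq_true]
  rcases (nf_eq_zero_iff w).mp h with h | h
  · left
    have : wordOf m = wordOf 0 := by
      rw [← hw, h, wordOf_zero]
      rfl
    rw [wordOf_injective hm (by norm_num) this]
    rfl
  · right
    have : wordOf m = wordOf 0xffffff := by
      rw [← hw, h]
      exact one_eq_wordOf
    rw [wordOf_injective hm (by norm_num) this]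
    rfl

theorem eq_zero_of_mask_triv {x : ↥golayCode} {m : ℕ} (hx : nf x = x) (hm : x.1 = wordOf m)
    (h : isTriv m = true) : x = 0 := by
  unfold isTriv at h
  rw [Bool.or_eq_true] at h
  rcases h with h | h
  · have hm0 : m = 0 := Nat.eq_of_beq_eq_true h
    apply Subtype.ext
    rw [hm, hm0, wordOf_zero]
    rfl
  · have hm1 : m = 0xffffff := Nat.eq_of_beq_eq_true h
    have : x = oneW := by
      apply Subtype.ext
      rw [hm, hm1]
      exact one_eq_wordOf.symm
    rw [← hx, this, nf_oneW]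

/-! ### vanishing of the first cohomology -/

theorem h1_vanish (D : ↥M24 → ↥golayCode)
    (hD : ∀ σ τ, nf (D (σ * τ)) = nf (D σ) + nf (actW σ (D τ))) :
    ∃ v : ↥golayCode, ∀ σ, nf (D σ) = nf (v + actW σ v) := by
  classical
  -- the normalised cocycle
  obtain ⟨Dt, hDt⟩ : ∃ Dt : ↥M24 → ↥golayCode, ∀ σ, Dt σ = nf (D σ) := ⟨_, fun _ => rfl⟩
  have hc : ∀ σ τ, Dt (σ * τ) = Dt σ + rho σ (Dt τ) := by
    intro σ τ
    rw [hDt, hDt, hDt, rho_apply, nf_actW, hD]
  have hnfD : ∀ σ, nf (Dt σ) = Dt σ := by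
    intro σ
    rw [hDt, nf_nf]
  -- averaging over the cyclic group of order 23
  obtain ⟨v0, hv0⟩ : ∃ v0 : ↥golayCode, v0 = ∑ k ∈ Finset.range 23, Dt (aM ^ k) := ⟨_, rfl⟩
  have hnfv : nf v0 = v0 := by
    rw [← rho_one, hv0, map_sum]
    apply Finset.sum_congr rfl
    intro k _
    rw [rho_one, hnfD]
  have hstep : ∀ k : ℕ, rho aM (Dt (aM ^ k)) = Dt (aM ^ (k + 1)) + Dt aM := by
    intro k
    have h := hc aM (aM ^ k)
    rw [← pow_succ'] at h
    rw [h, add_comm (Dt aM), add_assoc, add_self_code, add_zero]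
  have hsum : rho aM v0 = v0 + Dt aM := by
    rw [hv0, map_sum]
    rw [Finset.sum_congr rfl (fun k _ => hstep k), Finset.sum_add_distrib, Finset.sum_const,
      Finset.card_range]
    have e1 : ∑ k ∈ Finset.range 23, Dt (aM ^ (k + 1)) = ∑ k ∈ Finset.range 23, Dt (aM ^ k) := by
      have h24a := Finset.sum_range_succ (fun k => Dt (aM ^ k)) 23
      have h24b := Finset.sum_range_succ' (fun k => Dt (aM ^ k)) 23
      rw [h24a] at h24b
      simp only [aM_pow, pow_zero] at h24b
      exact (add_right_cancel h24b).symm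
    have e2 : (23 : ℕ) • Dt aM = Dt aM := by
      have h2 : (2 : ℕ) • Dt aM = 0 := by rw [two_nsmul, add_self_code]
      have : (23 : ℕ) • Dt aM = (11 : ℕ) • ((2 : ℕ) • Dt aM) + Dt aM := by
        rw [← mul_nsmul, ← succ_nsmul]
      rw [this, h2, nsmul_zero, zero_add]
    rw [e1, e2]
  -- the corrected cocycle
  obtain ⟨D', hD'⟩ : ∃ D' : ↥M24 → ↥golayCode, ∀ σ, D' σ = Dt σ + (v0 + rho σ v0) :=
    ⟨_, fun _ => rfl⟩
  have hc' : ∀ σ τ, D' (σ * τ) = D' σ + rho σ (D' τ) := by
    intro σ τ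
    rw [hD', hD', hD', hc, map_add, map_add, rho_mul]
    have e : ∀ p q r s X : ↥golayCode, p + q + (r + s) = p + (r + X) + (q + (X + s)) := by
      intro p q r s X
      have : p + (r + X) + (q + (X + s)) = p + q + (r + s) + (X + X) := by abel
      rw [this, add_self_code, add_zero]
    exact e _ _ _ _ _
  have hnfD' : ∀ σ, nf (D' σ) = D' σ := by
    intro σ
    rw [hD', nf_add, nf_add, hnfD, hnfv, nf_rho]
  have hD'a : D' aM = 0 := by
    rw [hD', hsum]
    have e : ∀ p q : ↥golayCode, p + (q + (q + p)) = 0 := by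
      intro p q
      have : p + (q + (q + p)) = (p + p) + (q + q) := by abel
      rw [this, add_self_code, add_self_code, add_zero]
    exact e _ _
  have hD'1 : D' 1 = 0 := by
    have h := hc' 1 1
    rw [mul_one, rho_one, hnfD', add_self_code] at h
    exact h
  -- the value on `b` is killed by the relators
  have hD'b : D' bM = 0 := by
    obtain ⟨c, hc4, hcm⟩ := (mem_golayCode_iff _).mp (D' bM).2
    have hmlt : codeMask c < 2 ^ 24 := codeMask_lt c hc4
    have hcert := (allBelow_iff _ _).mp cert_h1 c hc4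
    rw [Bool.or_eq_true, Bool.not_eq_true'] at hcert
    rcases hcert with hcert | hcert
    · exfalso
      have : relsL.all (fun R => isTriv (dWm (codeMask c) R)) = true := by
        rw [List.all_eq_true]
        intro R hR
        have hrel : evalP R = 1 := evalP_eq_one (List.all_eq_true.mp cert_rels R hR)
        have h := coc_evalP D' hc' hD'1 hD'a (D' bM) rfl (hnfD' bM) R
        rw [hrel, hD'1] at h
        exact mask_triv_of_nf (dWm_lt hmlt R) (dW_mask (D' bM) (codeMask c) hcm R) h.symm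
      rw [this] at hcert
      exact Bool.noConfusion hcert
    · exact eq_zero_of_mask_triv (hnfD' bM) hcm hcert
  -- the cocycle vanishes on the group generated by `a` and `b`
  have hle : Subgroup.closure {aP, bP} ≤ M24 := by
    rw [Subgroup.closure_le]
    intro x hx
    simp only [Set.mem_insert_iff, Set.mem_singleton_iff] at hx
    rcases hx with rfl | rfl
    · exact aP_mem
    · exact bP_mem
  have hall : ∀ (σ : Equiv.Perm GolayPt) (hσ : σ ∈ Subgroup.closure {aP, bP}),
      D' ⟨σ, hle hσ⟩ = 0 := by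
    intro σ hσ
    induction hσ using Subgroup.closure_induction with
    | mem x hx =>
      simp only [Set.mem_insert_iff, Set.mem_singleton_iff] at hx
      rcases hx with rfl | rfl
      · exact hD'a
      · exact hD'b
    | one => exact hD'1
    | mul x y hx hy ihx ihy =>
      have h := hc' ⟨x, hle hx⟩ ⟨y, hle hy⟩
      rw [ihx, ihy, map_zero, add_zero] at h
      exact h
    | inv x hx ihx =>
      have h := hc' ⟨x⁻¹, hle (Subgroup.inv_mem _ hx)⟩ ⟨x, hle hx⟩
      rw [ihx, map_zero, add_zero] at h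
      have e : (⟨x⁻¹, hle (Subgroup.inv_mem _ hx)⟩ : ↥M24) * ⟨x, hle hx⟩ = 1 :=
        Subtype.ext (inv_mul_cancel x)
      rw [e, hD'1] at h
      exact h.symm
  refine ⟨v0, fun σ => ?_⟩
  have h0 : D' σ = 0 := hall σ.1 (M24_le_closure σ.2)
  rw [hD'] at h0
  rw [← hDt, c2_eq_of_add_eq_zero h0, nf_add, hnfv, rho_apply]

/-! ### the leaf -/

/-- the element `mon σ 0` of `Nb` -/
noncomputable def nbOf (σ : ↥M24) : ↥Nb := ⟨mon σ 0, mon_mem_Nb σ 0⟩

/-- the element `mon 1 w` of `Nb` -/
noncomputable def ebOf (w : ↥golayCode) : ↥Nb := ⟨mon 1 w, mon_mem_Nb 1 w⟩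

theorem nbOf_mul (σ τ : ↥M24) : nbOf (σ * τ) = nbOf σ * nbOf τ := by
  apply Subtype.ext
  show mon (σ * τ) 0 = mon σ 0 * mon τ 0
  rw [mon_mul, actW_zero, add_zero]

theorem mon_split (σ : ↥M24) (w : ↥golayCode) : mon σ w = mon 1 w * mon σ 0 := by
  rw [mon_mul, one_mul, actW_one, add_zero]

/-- (CO4c) -/
theorem inner_of_fix_Eb (β : MulAut ↥Nb)
    (h1 : ∀ x : ↥Nb, ((β x * x⁻¹ : ↥Nb) : Cfsg.Spor.Co1) ∈ Eb)
    (h2 : ∀ x : ↥Nb, (x : Cfsg.Spor.Co1) ∈ Eb → β x = x) :
    ∃ e : ↥Nb, (e : Cfsg.Spor.Co1) ∈ Eb ∧ ∀ x : ↥Nb, β x = e * x * e⁻¹ := by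
  -- the cocycle
  have hex : ∀ σ : ↥M24, ∃ w : ↥golayCode,
      ((β (nbOf σ) : ↥Nb) : Cfsg.Spor.Co1) = mon σ w := by
    intro σ
    obtain ⟨w, hw⟩ := (mem_Eb_iff _).mp (h1 (nbOf σ))
    refine ⟨w, ?_⟩
    have e : ((β (nbOf σ) * (nbOf σ)⁻¹ : ↥Nb) : Cfsg.Spor.Co1) =
        ((β (nbOf σ) : ↥Nb) : Cfsg.Spor.Co1) * (mon σ 0)⁻¹ := rfl
    rw [e] at hw
    rw [mon_split σ w, hw, inv_mul_cancel_right]
  choose d hd using hex
  have hcoc : ∀ σ τ, nf (d (σ * τ)) = nf (d σ) + nf (actW σ (d τ)) := by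
    intro σ τ
    have e2 := hd (σ * τ)
    rw [nbOf_mul, map_mul] at e2
    have e3 : ((β (nbOf σ) * β (nbOf τ) : ↥Nb) : Cfsg.Spor.Co1) =
        ((β (nbOf σ) : ↥Nb) : Cfsg.Spor.Co1) * ((β (nbOf τ) : ↥Nb) : Cfsg.Spor.Co1) := rfl
    rw [e3, hd σ, hd τ, mon_mul] at e2
    obtain ⟨-, h⟩ := (mon_eq_iff _ _ _ _).mp e2
    rw [← nf_add]
    exact ((nf_eq_iff _ _).mpr h).symm
  obtain ⟨v, hv⟩ := h1_vanish d hcoc
  refine ⟨ebOf v, mon_mem_Eb v, ?_⟩
  intro x
  obtain ⟨σ, w, hx⟩ := (mem_Nb_iff _).mp x.2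
  have ex : x = ebOf w * nbOf σ := by
    apply Subtype.ext
    show (x : Cfsg.Spor.Co1) = mon 1 w * mon σ 0
    rw [← mon_split, hx]
  apply Subtype.ext
  rw [ex, map_mul, h2 (ebOf w) (mon_mem_Eb w)]
  show mon 1 w * ((β (nbOf σ) : ↥Nb) : Cfsg.Spor.Co1) =
    mon 1 v * (mon 1 w * mon σ 0) * (mon 1 v)⁻¹
  rw [hd σ, mon_mul, one_mul, actW_one, mon_inv, mon_mul, mon_mul, mon_mul, one_mul, one_mul,
    inv_one, mul_one, actW_one, actW_one, actW_one, add_zero]
  rw [mon_eq_iff]
  refine ⟨rfl, ?_⟩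
  rcases (nf_eq_iff _ _).mp (hv σ) with h | h
  · left
    rw [h]
    abel
  · right
    rw [h]
    abel

end Cfsg.Agent.Lib.Helper15.Co1Leaf
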