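import Mathlib
import Cfsg.Agent.Lib.Helper10.Co1O.Defs
import Cfsg.Agent.Lib.Helper27.Co1.CO4a
import Cfsg.Agent.Lib.Helper6.Co1.CO4b
import Cfsg.Agent.Lib.Helper15.Co1.CO4c

set_option autoImplicit false

/-!
S2069 leaf CO4 (`aut_Nb_inner`): assembly of CO4a (helper27), CO4b (helper6), CO4c (helper15):
an automorphism of `Nb` preserving `Eb` is inner.
-/

namespace Cfsg.Agent.Lib.Helper15.Co1Leaf

open Cfsg
open Cfsg.Agent.Lib.Helper10.Co1O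

/-- (CO4) -/
theorem aut_Nb_inner (β : MulAut ↥Nb)
    (hβ : ∀ x : ↥Nb, (x : Cfsg.Spor.Co1) ∈ Eb → ((β x : ↥Nb) : Cfsg.Spor.Co1) ∈ Eb) :
    ∃ n : ↥Nb, ∀ x : ↥Nb, β x = n * x * n⁻¹ := by
  obtain ⟨n, hn⟩ := Cfsg.Agent.Lib.Helper27.Co1Leaf.exists_conj_mod_Eb β hβ
  -- the automorphism `x ↦ n⁻¹ β(x) n`
  set γ : MulAut ↥Nb := (MulAut.conj n)⁻¹ * β with hγ
  have hγx : ∀ x : ↥Nb, γ x = n⁻¹ * β x * n := by
    intro x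
    rw [hγ, MulAut.mul_apply, ← map_inv, MulAut.conj_apply, inv_inv]
  have h1 : ∀ x : ↥Nb, ((γ x * x⁻¹ : ↥Nb) : Cfsg.Spor.Co1) ∈ Eb := by
    intro x
    rw [hγx]
    exact hn x
  have h2 := Cfsg.Agent.Lib.Helper6.Co1Leaf.fix_Eb_of_mod γ h1
  obtain ⟨e, -, he⟩ := inner_of_fix_Eb γ h1 h2
  refine ⟨n * e, fun x => ?_⟩
  have h3 := he x
  rw [hγx] at h3
  -- n⁻¹ * β x * n = e * x * e⁻¹
  have h4 : β x = n * (n⁻¹ * β x * n) * n⁻¹ := by group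
  rw [h4, h3]
  group

end Cfsg.Agent.Lib.Helper15.Co1Leaf
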